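import Groth.Agent.Lib.AlgSp.QCohEtRes
import Groth.Agent.Lib.QCoh.Affine
import Groth.Prelude.Def_AlgSpModX
import Groth.Prelude.Def_Coh
import Mathlib.Algebra.Module.Shrink
import Mathlib.RingTheory.Localization.BaseChange

/-!
# Zariski companions of modules with small sections

* `exists_zarCompanion`: a quasi-coherent module on the small étale site of a scheme with small sections on affine
  objects has a quasi-coherent Zariski companion.
-/

universe u

open CategoryTheory CategoryTheory.Limits AlgebraicGeometry Opposite TopologicalSpace TensorProduct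
set_option backward.isDefEq.respectTransparency false

noncomputable section

namespace GrothLib.AlgSpPull29

open _root_.AlgSp GrothLib.AlgSp GrothLib.AlgSp.QCohEt

variable {S : Scheme.{u}} {V : Over S}

/-- An open as an object of the small étale site. -/
abbrev oObj (W : V.left.Opens) : EtOver ((yon S).obj V) := (EtOver.ofScheme V).obj (_root_.AlgSp.etaleOfOpen V.left W)

/-- An inclusion of opens as a morphism of the site. -/
abbrev oLE {W W' : V.left.Opens} (h : W' ≤ W) : oObj W' ⟶ oObj W := (EtOver.ofScheme V).map (etaleOfLE h)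

theorem comp_ι_eq {W : V.left.Opens} {Z : EtOver ((yon S).obj V)} (a b : Z ⟶ oObj W) :
    a.hom.left.left ≫ W.ι = b.hom.left.left ≫ W.ι := by
  obtain ⟨ι', hι'⟩ : ∃ ι' : (oObj W).obj.left ⟶ V, (oObj W).obj.hom = (yon S).map ι' ∧ ι'.left = W.ι :=
    ⟨Over.homMk W.ι rfl, Category.comp_id _, rfl⟩
  have h := ((EtOver.w a).trans (EtOver.w b).symm)
  rw [hι'.1, ← Functor.map_comp, ← Functor.map_comp] at h
  have h' := congrArg (fun k => k.left) ((yon S).map_injective h)
  rw [← hι'.2]
  exact h'

theorem hom_oObj_ext {W : V.left.Opens} {Z : EtOver ((yon S).obj V)} (a b : Z ⟶ oObj W) : a = b :=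
  EtOver.hom_ext _ _ (Over.OverMorphism.ext ((cancel_mono W.ι).1 (comp_ι_eq a b)))

theorem exists_hom_inf {W₁ W₂ : V.left.Opens} {Z : EtOver ((yon S).obj V)} (a : Z ⟶ oObj W₁) (b : Z ⟶ oObj W₂)
    (hab : a.hom.left.left ≫ W₁.ι = b.hom.left.left ≫ W₂.ι) : Nonempty (Z ⟶ oObj (W₁ ⊓ W₂)) := by
  have hr : Set.range (a.hom.left.left ≫ W₁.ι) ⊆ Set.range (W₁ ⊓ W₂).ι := by
    rintro _ ⟨z, rfl⟩
    rw [Scheme.Opens.range_ι]
    refine ⟨(a.hom.left.left z).2, ?_⟩
    rw [hab]
    exact (b.hom.left.left z).2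
  let k := IsOpenImmersion.lift (W₁ ⊓ W₂).ι (a.hom.left.left ≫ W₁.ι) hr
  have hk : k ≫ (W₁ ⊓ W₂).ι = a.hom.left.left ≫ W₁.ι := IsOpenImmersion.lift_fac _ _ _
  refine ⟨EtOver.homMk (Over.homMk k (show k ≫ (W₁ ⊓ W₂).ι ≫ V.hom = Z.obj.left.hom from ?_)) ?_⟩
  · rw [← Category.assoc, hk, Category.assoc]
    exact Over.w a.hom.left
  · refine Eq.trans ?_ (EtOver.w a)
    rw [show (oObj (W₁ ⊓ W₂)).obj.hom = (yon S).map (Over.homMk (W₁ ⊓ W₂).ι rfl : (oObj (W₁ ⊓ W₂)).obj.left ⟶ V)
        from Category.comp_id _,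
      show (oObj W₁).obj.hom = (yon S).map (Over.homMk W₁.ι rfl : (oObj W₁).obj.left ⟶ V) from Category.comp_id _,
      ← Functor.map_comp, ← Functor.map_comp]
    exact congrArg (yon S).map (Over.OverMorphism.ext hk)

theorem cover_mem {ι : Type u} (U : ι → V.left.Opens) {W : V.left.Opens} (hle : ∀ i, U i ≤ W)
    (hW : W ≤ iSup U) :
    Sieve.ofArrows (fun i => oObj (U i)) (fun i => oLE (hle i)) ∈ etTop ((yon S).obj V) (oObj W) :=
  ofArrows_mem_etTop _ _ fun x => by
    obtain ⟨i, hi⟩ := Opens.mem_iSup.1 (hW x.2)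
    refine ⟨i, ⟨x.1, hi⟩, Subtype.ext ?_⟩
    exact Scheme.homOfLE_apply (hle i) ⟨x.1, hi⟩

variable (N : ModEt ((yon S).obj V))

/-- Sections over opens. -/
def SW (W : V.left.Opens) : Type (u + 1) := Sec (O := OEt ((yon S).obj V)) N (oObj W)

instance (W : V.left.Opens) : AddCommGroup (SW N W) :=
  inferInstanceAs (AddCommGroup (Sec (O := OEt ((yon S).obj V)) N (oObj W)))

/-- Functions on an open as functions on the object. -/
def psiW (W : V.left.Opens) : Γ(V.left, W) ≃+* Ob (OEt ((yon S).obj V)) (oObj W) where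
  toFun a := ULift.up (W.topIso.inv a)
  invFun a := W.topIso.hom a.down
  left_inv a := W.topIso.inv_hom_id_apply a
  right_inv a := ULift.ext _ _ (W.topIso.hom_inv_id_apply a.down)
  map_mul' a b := ULift.ext _ _ (map_mul W.topIso.inv.hom a b)
  map_add' a b := ULift.ext _ _ (map_add W.topIso.inv.hom a b)

theorem psiW_res {W W' : V.left.Opens} (h : W' ≤ W) (a : Γ(V.left, W)) :
    res (OEt ((yon S).obj V)) (oLE h) (psiW W a) = psiW W' (V.left.presheaf.map (homOfLE h).op a) := by
  refine ULift.ext _ _ ?_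
  show (V.left.homOfLE h).appTop (W.topIso.inv a) = W'.topIso.inv (V.left.presheaf.map (homOfLE h).op a)
  rw [← ConcreteCategory.comp_apply, ← ConcreteCategory.comp_apply]
  congr 2
  rw [Scheme.Opens.topIso_inv, Scheme.Opens.topIso_inv, Scheme.homOfLE_appTop, ← Functor.map_comp, ← Functor.map_comp]
  rfl

instance (W : V.left.Opens) : Module Γ(V.left, W) (SW N W) :=
  Module.compHom (Sec (O := OEt ((yon S).obj V)) N (oObj W)) (psiW W).toRingHom

theorem small_sw (hsmall : ∀ W : V.left.Opens, IsAffineOpen W → Small.{u} (SW N W)) (W : V.left.Opens) :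
    Small.{u} (SW N W) := by
  choose O hO hxO hle using fun x : W => exists_isAffineOpen_mem_and_subset (x := x.1) x.2
  haveI := fun x : W => hsmall (O x) (hO x)
  refine small_of_injective (β := ∀ x : W, SW N (O x)) (f := fun (s : SW N W) (x : W) =>
    mres N (oLE (show O x ≤ W from hle x)) s) fun s t h => ?_
  refine sec_ext N (cover_mem O (fun x => hle x) fun y hy => Opens.mem_iSup.2 ⟨⟨y, hy⟩, hxO ⟨y, hy⟩⟩) ?_
  rintro Z _ ⟨_, a, _, ⟨x⟩, rfl⟩
  rw [mres_comp, mres_comp]
  exact congrArg (mres N a) (congrFun h x)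

variable [∀ W : V.left.Opens, Small.{u} (SW N W)]

/-- The presheaf of small copies of sections. -/
def presheafCompanion : TopCat.Presheaf AddCommGrpCat.{u} V.left.carrier where
  obj W := AddCommGrpCat.of (Shrink.{u} (SW N W.unop))
  map {W W'} f := AddCommGrpCat.ofHom
    { toFun := fun s => equivShrink.{u} (SW N W'.unop) (mres N (oLE f.unop.le) ((equivShrink.{u} (SW N W.unop)).symm s))
      map_zero' := by rw [equivShrink_symm_zero]; exact (congrArg _ (map_zero _)).trans (Equiv.apply_eq_iff_eq_symm_apply _ |>.2 equivShrink_symm_zero.symm)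
      map_add' := fun s t => by rw [equivShrink_symm_add]; exact (congrArg _ (map_add _ _ _)).trans (equivShrink_add _ _) }
  map_id W := by
    refine AddCommGrpCat.hom_ext (AddMonoidHom.ext fun (s : Shrink.{u} (SW N W.unop)) => ?_)
    show equivShrink.{u} (SW N W.unop) (mres N (oLE _) ((equivShrink.{u} (SW N W.unop)).symm s)) = s
    rw [hom_oObj_ext (oLE _) (𝟙 _), mres_id, Equiv.apply_symm_apply]
  map_comp {W W' W''} f g := by
    refine AddCommGrpCat.hom_ext (AddMonoidHom.ext fun (s : Shrink.{u} (SW N W.unop)) => ?_)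
    show equivShrink.{u} (SW N W''.unop) (mres N (oLE _) ((equivShrink.{u} (SW N W.unop)).symm s)) =
      equivShrink.{u} (SW N W''.unop) (mres N (oLE g.unop.le) ((equivShrink.{u} (SW N W'.unop)).symm
        (equivShrink.{u} (SW N W'.unop) (mres N (oLE f.unop.le) ((equivShrink.{u} (SW N W.unop)).symm s)))))
    rw [Equiv.symm_apply_apply, ← mres_comp, hom_oObj_ext (oLE _) (oLE g.unop.le ≫ oLE f.unop.le)]

theorem isSheaf_presheafCompanion : (presheafCompanion N).IsSheaf := by
  rw [TopCat.Presheaf.isSheaf_iff_isSheafUniqueGluing]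
  intro ι U sf hsf
  have hN : Presieve.IsSheaf (etTop ((yon S).obj V)) (N.val.presheaf ⋙ forget AddCommGrpCat) :=
    (isSheaf_iff_isSheaf_of_type _ _).1 ((Presheaf.isSheaf_iff_isSheaf_forget _ _ (forget AddCommGrpCat)).1 N.isSheaf)
  have h := hN _ (cover_mem U (W := iSup U) (fun i => le_iSup U i) le_rfl)
  rw [Sieve.ofArrows, ← Presieve.isSheafFor_iff_generate, Presieve.isSheafFor_arrows_iff] at h
  let x : ∀ i, SW N (U i) := fun i => (equivShrink.{u} (SW N (U i))).symm (sf i)
  obtain ⟨t, ht, htu⟩ := h x (fun i j Z a b hab => by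
    have hab' : a.hom.left.left ≫ Scheme.Opens.ι (X := V.left) (U i) = b.hom.left.left ≫ Scheme.Opens.ι (X := V.left) (U j) := by
      have h := congrArg (fun k => k ≫ Scheme.Opens.ι (X := V.left) (iSup U)) (congrArg (fun k => k.hom.left.left) hab)
      refine Eq.trans ?_ (h.trans ?_)
      · show _ = (a.hom.left.left ≫ V.left.homOfLE (le_iSup U i)) ≫ Scheme.Opens.ι (X := V.left) (iSup U)
        rw [Category.assoc, Scheme.homOfLE_ι]
      · show (b.hom.left.left ≫ V.left.homOfLE (le_iSup U j)) ≫ Scheme.Opens.ι (X := V.left) (iSup U) = _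
        rw [Category.assoc, Scheme.homOfLE_ι]
    obtain ⟨k⟩ := exists_hom_inf a b hab'
    show mres N a (x i) = mres N b (x j)
    rw [hom_oObj_ext a (k ≫ oLE inf_le_left), hom_oObj_ext b (k ≫ oLE inf_le_right), mres_comp, mres_comp]
    exact congrArg (mres N k) ((equivShrink.{u} (SW N (U i ⊓ U j))).injective (hsf i j)))
  refine ⟨equivShrink.{u} (SW N (iSup U)) t, fun i => ?_, fun s hs => ?_⟩
  · show equivShrink.{u} (SW N (U i)) (mres N _ ((equivShrink.{u} (SW N (iSup U))).symm _)) = sf i
    rw [Equiv.symm_apply_apply]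
    exact (congrArg _ (ht i)).trans (Equiv.apply_symm_apply _ _)
  · refine (Equiv.symm_apply_eq (equivShrink.{u} (SW N (iSup U)))).1 ?_
    exact htu _ fun i => (equivShrink.{u} (SW N (U i))).injective ((hs i).trans (Equiv.apply_symm_apply _ _).symm)

instance (W : V.left.Opensᵒᵖ) : Module (V.left.ringCatSheaf.obj.obj W) ((presheafCompanion N).obj W) :=
  inferInstanceAs (Module Γ(V.left, W.unop) (Shrink.{u} (SW N W.unop)))

theorem map_smul_companion {W W' : V.left.Opensᵒᵖ} (f : W ⟶ W') (a : Γ(V.left, W.unop))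
    (s : Shrink.{u} (SW N W.unop)) :
    (presheafCompanion N).map f (a • s) =
      (show Γ(V.left, W'.unop) from V.left.presheaf.map f a) •
        (show Shrink.{u} (SW N W'.unop) from (presheafCompanion N).map f s) := by
  show equivShrink.{u} (SW N W'.unop) (mres N (oLE f.unop.le) ((equivShrink.{u} (SW N W.unop)).symm (a • s))) =
    (show Γ(V.left, W'.unop) from V.left.presheaf.map f a) • equivShrink.{u} (SW N W'.unop)
      (mres N (oLE f.unop.le) ((equivShrink.{u} (SW N W.unop)).symm s))
  rw [equivShrink_symm_smul, ← equivShrink_smul]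
  refine congrArg _ ((mres_smul N (oLE f.unop.le) (psiW W.unop a) _).trans ?_)
  rw [psiW_res, show (homOfLE f.unop.le).op = f from Subsingleton.elim _ _]
  rfl

/-- The companion. -/
def companion : V.left.Modules where
  val := PresheafOfModules.ofPresheaf (presheafCompanion N) fun {_ _} f a s => map_smul_companion N f a s
  isSheaf := isSheaf_presheafCompanion N

/-- Its sections. -/
def companionEquiv (W : V.left.Opens) : Γ(companion N, W) ≃+ SW N W :=
  { (equivShrink.{u} (SW N W)).symm with
    map_add' := fun s t => equivShrink_symm_add s t }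

theorem companionEquiv_smul (W : V.left.Opens) (a : Γ(V.left, W)) (s : Γ(companion N, W)) :
    companionEquiv N W (a • s) = a • companionEquiv N W s :=
  equivShrink_symm_smul a (show Shrink.{u} (SW N W) from s)

theorem companionEquiv_res {W W' : V.left.Opens} (h : W' ≤ W) (s : Γ(companion N, W)) :
    companionEquiv N W' ((companion N).presheaf.map (homOfLE h).op s) = mres N (oLE h) (companionEquiv N W s) :=
  Equiv.symm_apply_apply _ _

theorem isLocalizedModule_sec (hgood : ∀ E : EtOver ((yon S).obj V), IsAffine E.obj.left.left →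
      Good (O := OEt ((yon S).obj V)) N (affEt _) E) {W : V.left.Opens} (hW : IsAffineOpen W) (g : Γ(V.left, W)) :
    (∀ z : SW N (V.left.basicOpen g), ∃ (n : ℕ) (m : SW N W), mres N (oLE (V.left.basicOpen_le g)) m =
      (V.left.presheaf.map (homOfLE (V.left.basicOpen_le g)).op g) ^ n • z) ∧
    (∀ m : SW N W, (mres N (oLE (V.left.basicOpen_le g)) m : SW N (V.left.basicOpen g)) = 0 →
      ∃ n : ℕ, g ^ n • m = 0) := by
  let D := V.left.basicOpen g
  let O := OEt ((yon S).obj V)
  let j : oObj D ⟶ oObj W := oLE (V.left.basicOpen_le g)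
  let T : Over (oObj W) := Over.mk j
  haveI := hW.isLocalization_basicOpen g
  letI : Algebra Γ(V.left, W) (Ov O T) := ((algebraMap (Ob O (oObj W)) (Ov O T)).comp (psiW W).toRingHom).toAlgebra
  haveI : IsLocalization (Submonoid.powers g) (Ov O T) :=
    IsLocalization.isLocalization_of_algEquiv (S := Γ(V.left, D)) (Submonoid.powers g)
      { (psiW D : Γ(V.left, D) ≃+* Ob O (oObj D)) with
        commutes' := fun a => (psiW_res (V.left.basicOpen_le g) a).symm }
  have hloc : IsLocalization (Submonoid.powers (psiW W g)) (Ov O T) := by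
    have h := IsLocalization.isLocalization_of_base_ringEquiv (Submonoid.powers g) (Ov O T) (psiW W)
    rw [Submonoid.map_powers] at h
    convert h using 1
    refine Algebra.algebra_ext _ _ fun a => ?_
    exact congrArg (algebraMap (Ob O (oObj W)) (Ov O T)) ((psiW W).apply_symm_apply a).symm
  haveI := hloc
  let ι₁ := TensorProduct.mk (Ob O (oObj W)) (Ov O T) (Sec N (oObj W)) 1
  haveI : IsLocalizedModule (Submonoid.powers (psiW W g)) ι₁ := inferInstance
  have hθ := hgood (oObj W) hW T (hW.basicOpen g)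
  have hι : ∀ m, theta (LinearMap.id : Sec N (oObj W) →ₗ[Ob O (oObj W)] Sec N (oObj W)) T (ι₁ m) = mres N j m :=
    fun m => by
      rw [show ι₁ m = (1 : Ov O T) ⊗ₜ m from rfl, theta_tmul, LinearMap.id_apply]
      exact one_smul (Ob O (oObj D)) _
  refine ⟨fun z => ?_, fun m hm => ?_⟩
  · obtain ⟨c, hc⟩ := hθ.2 z
    obtain ⟨⟨m, ⟨_, n, rfl⟩⟩, hn⟩ := IsLocalizedModule.surj (Submonoid.powers (psiW W g)) ι₁ c
    refine ⟨n, m, ?_⟩
    rw [← hι, ← hn, Submonoid.smul_def, ← algebraMap_smul (Ov O T) ((psiW W g) ^ n) c, map_pow]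
    refine (theta_smul _ T _ c).trans ?_
    rw [hc]
    refine congrArg (fun r : Ob O (oObj D) => r • (show Sec N (oObj D) from z)) ?_
    show (res O j (psiW W g)) ^ n = psiW D ((V.left.presheaf.map (homOfLE (V.left.basicOpen_le g)).op g) ^ n)
    rw [map_pow, psiW_res]
  · have h0 : ι₁ m = ι₁ 0 := hθ.1 (by rw [hι, map_zero, map_zero]; exact hm)
    obtain ⟨⟨_, n, rfl⟩, hn⟩ := IsLocalizedModule.exists_of_eq (S := Submonoid.powers (psiW W g)) h0
    refine ⟨n, ?_⟩
    rw [smul_zero] at hn
    show psiW W (g ^ n) • (show Sec N (oObj W) from m) = 0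
    rw [map_pow]
    exact hn

/-- A quasi-coherent Zariski companion. -/
theorem exists_zarCompanion (N : ModEt ((yon S).obj V)) [N.IsQuasicoherent]
    (hsmall : ∀ E : EtOver ((yon S).obj V), IsAffine E.obj.left.left → Small.{u} (sectModEt N E)) :
    ∃ (H : V.left.Modules) (_ : Coh.IsQCoh H), Nonempty (ZarCompanion V.left H ((resSchModEt V).obj N)) := by
  haveI := small_sw N fun W hW => hsmall (oObj W) hW
  refine ⟨companion N, ?_, ⟨⟨fun W => ((companionEquiv N W).symm.trans AddEquiv.ulift.symm), fun W a m => ?_,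
    fun {W W'} h m => ?_⟩⟩⟩
  · refine (QCoh.isQuasicoherent_iff_smulLift_smulSep _).2 fun W hW g => ?_
    obtain ⟨h1, h2⟩ := isLocalizedModule_sec N (fun E hE => good_of_isQuasicoherent N hE) hW g
    refine ⟨fun s => ?_, fun t ht => ?_⟩
    · obtain ⟨n, m, hm⟩ := h1 (companionEquiv N _ s)
      refine ⟨n, (companionEquiv N W).symm m, (companionEquiv N _).injective ?_⟩
      rw [companionEquiv_res, AddEquiv.apply_symm_apply, companionEquiv_smul, hm]
    · obtain ⟨n, hn⟩ := h2 (companionEquiv N W t) (by rw [← companionEquiv_res, ht, map_zero])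
      exact ⟨n, (companionEquiv N W).injective (by rw [companionEquiv_smul, hn, map_zero])⟩
  · refine congrArg ULift.up ((companionEquiv N W).injective ?_)
    show companionEquiv N W ((companionEquiv N W).symm (a • (show SW N W from m))) =
      companionEquiv N W (a • (companionEquiv N W).symm (show SW N W from m))
    rw [companionEquiv_smul, AddEquiv.apply_symm_apply, AddEquiv.apply_symm_apply]
  · refine congrArg ULift.up ((companionEquiv N W').injective ?_)
    show companionEquiv N W' ((companionEquiv N W').symm (mres N (oLE h) m)) =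
      companionEquiv N W' ((companion N).presheaf.map (homOfLE h).op ((companionEquiv N W).symm m))
    rw [companionEquiv_res, AddEquiv.apply_symm_apply, AddEquiv.apply_symm_apply]

end GrothLib.AlgSpPull29
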