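import Groth.Agent.Lib.AlgSpPull29.Main
import Groth.Agent.Lib.AlgSp.QCohProjDescent

/-!
# Projective sections of inverse images

* `exists_retract_free`: projective sections on a final affine object give a retract of a free module.
* `projective_pullModEt`: inverse images of locally projective modules are locally projective.
-/

universe u

open CategoryTheory CategoryTheory.Limits AlgebraicGeometry Opposite TensorProduct
set_option backward.isDefEq.respectTransparency false

noncomputable section

namespace GrothLib.AlgSpPull29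

open _root_.AlgSp GrothLib.AlgSp GrothLib.AlgSp.QCohEt

section Site

variable {C : Type (u + 1)} [Category.{u} C] {J : GrothendieckTopology C} {O : Sheaf J CommRingCat.{u + 1}}
  [HasSheafify J AddCommGrpCat.{u + 1}] [J.WEqualsLocallyBijective AddCommGrpCat.{u + 1}]
  (S : AffSite O)

/-- A morphism vanishing on affine objects vanishes. -/
theorem hom_eq_zero_of_affine (hcov : AffCovers S) {M M' : SheafOfModules.{u + 1} (RR O)} (φ : M ⟶ M')
    (h : ∀ W : C, S.Aff W → ∀ x : Sec M W, app φ W x = 0) : φ = 0 := by
  refine SheafOfModules.Hom.ext (PresheafOfModules.hom_ext fun V => ModuleCat.hom_ext (LinearMap.ext fun x => ?_))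
  obtain ⟨T, hT, hT'⟩ := hcov V.unop
  show app φ V.unop x = (0 : Sec M' V.unop)
  refine sec_ext M' hT fun Z z hz => ?_
  obtain ⟨W, a, b, hW, rfl⟩ := hT' z hz
  rw [map_zero, mres_comp, ← app_mres, h W hW, map_zero]

/-- Projective sections on a final affine object give a retract of a free module. -/
theorem exists_retract_free (hcov : AffCovers S) {top : C} (ht : IsTerminal top) (htop : S.Aff top)
    (M : SheafOfModules.{u + 1} (RR O)) (hgood : Good M S top) [Module.Projective (Ob O top) (Sec M top)] :
    ∃ (I : Type (u + 1)) (π : (SheafOfModules.free I : SheafOfModules.{u + 1} (RR O)) ⟶ M) (s : M ⟶ SheafOfModules.free I),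
      s ≫ π = 𝟙 M := by
  classical
  let I := Sec M top
  let L : (I →₀ Ob O top) →ₗ[Ob O top] Sec M top := Finsupp.linearCombination (Ob O top) id
  have hsurj : Function.Surjective L := fun x => ⟨Finsupp.single x 1, by simp [L]⟩
  obtain ⟨σ, hσ⟩ := Module.projective_lifting_property L LinearMap.id hsurj
  let F : SheafOfModules.{u + 1} (RR O) := SheafOfModules.free I
  let π : F ⟶ M := M.freeHomEquiv.symm fun i => secOfTop ht M i
  let κ : (I →₀ Ob O top) →ₗ[Ob O top] Sec F top :=
    Finsupp.linearCombination (Ob O top) fun i => secAt (SheafOfModules.freeSection (R := RR O) i : F.sections) top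
  let e : F ⟶ F := F.freeHomEquiv.symm fun i => secOfTop ht F (κ (σ i))
  have hπκ : (app π top).comp κ = L := by
    refine Finsupp.lhom_ext fun i a => ?_
    show app π top (Finsupp.linearCombination (Ob O top) _ (Finsupp.single i a)) = _
    rw [Finsupp.linearCombination_single, show L (Finsupp.single i a) = a • i from
      Finsupp.linearCombination_single _ _ _, map_smul]
    refine congrArg (fun y => a • y) ((app_secAt_free _ i top).trans ?_)
    rw [secAt_secOfTop, ht.hom_ext (ht.from top) (𝟙 top), mres_id]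
  have heκ : (app e top).comp κ = κ.comp (σ.comp L) := by
    refine Finsupp.lhom_ext fun i a => ?_
    show app e top (Finsupp.linearCombination (Ob O top) _ (Finsupp.single i a)) = κ (σ (L (Finsupp.single i a)))
    rw [Finsupp.linearCombination_single, show L (Finsupp.single i a) = a • i from
      Finsupp.linearCombination_single _ _ _, map_smul, map_smul, map_smul]
    refine congrArg (fun y => a • y) ((app_secAt_free _ i top).trans ?_)
    rw [secAt_secOfTop, ht.hom_ext (ht.from top) (𝟙 top), mres_id]
  have heπ : e ≫ π = π := by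
    apply M.freeHomEquiv.injective
    funext i
    refine PresheafOfModules.sections_ext _ _ fun V => ?_
    rw [SheafOfModules.freeHomEquiv_apply, SheafOfModules.freeHomEquiv_apply]
    show app (e ≫ π) V.unop (secAt (SheafOfModules.freeSection i) V.unop) =
      app π V.unop (secAt (SheafOfModules.freeSection i) V.unop)
    rw [app_comp, app_secAt_free, app_secAt_free, secAt_secOfTop, secAt_secOfTop, app_mres, ← LinearMap.comp_apply,
      hπκ, ← LinearMap.comp_apply, hσ]
    rfl
  haveI : Epi π := by
    refine epi_of_surjective S hcov π fun V hV x => ⟨⊤, J.top_mem _, fun Z z _ => ?_⟩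
    let V' : Over top := Over.mk (ht.from V)
    obtain ⟨c, hc⟩ := (hgood V' hV).2 x
    obtain ⟨c', rfl⟩ := LinearMap.lTensor_surjective (Ov O V') hsurj c
    rw [← theta_comp, LinearMap.id_comp, ← hπκ, ← app_theta] at hc
    exact ⟨mres F z (theta κ V' c'), (app_mres π z _).trans (congrArg _ hc)⟩
  have hker : kernel.ι π ≫ e = 0 := by
    refine hom_eq_zero_of_affine S hcov _ fun V hV k => ?_
    let V' : Over top := Over.mk (ht.from V)
    obtain ⟨c, hc⟩ := (bijective_theta_free S I V' hV).2 (app (kernel.ι π) V k)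
    have h0 : app π V (theta κ V' c) = 0 := by
      rw [show theta κ V' c = _ from hc, ← app_comp, kernel.condition]
      rfl
    have h2 : theta ((LinearMap.id : Sec M top →ₗ[Ob O top] Sec M top).comp L) V' c = 0 := by
      rw [LinearMap.id_comp, ← hπκ]
      exact (app_theta π κ V' c).symm.trans h0
    rw [theta_comp] at h2
    have h1 := (hgood V' hV).1 (h2.trans (map_zero _).symm)
    rw [app_comp, ← show theta κ V' c = app (kernel.ι π) V k from hc]
    refine (app_theta e κ V' c).trans ?_
    rw [heκ, theta_comp, LinearMap.lTensor_comp, LinearMap.comp_apply, h1, map_zero, map_zero]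
  refine ⟨I, π, Abelian.epiDesc π e hker, ?_⟩
  rw [← cancel_epi π, ← Category.assoc, Abelian.comp_epiDesc, heπ, Category.comp_id]

/-- Sections on affine objects of a retract of a free module are projective. -/
theorem projective_sec_of_retract {M : SheafOfModules.{u + 1} (RR O)} {I : Type (u + 1)}
    (π : (SheafOfModules.free I : SheafOfModules.{u + 1} (RR O)) ⟶ M) (s : M ⟶ SheafOfModules.free I)
    (h : s ≫ π = 𝟙 M) {A : C} (hA : S.Aff A) : Module.Projective (Ob O A) (Sec M A) := by
  let F : SheafOfModules.{u + 1} (RR O) := SheafOfModules.free I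
  let T : Over A := Over.mk (𝟙 A)
  let κ : (I →₀ Ob O A) →ₗ[Ob O A] Sec F A :=
    Finsupp.linearCombination (Ob O A) fun i => secAt (SheafOfModules.freeSection (R := RR O) i : F.sections) A
  let θ : Ov O T ⊗[Ob O A] (I →₀ Ob O A) →ₗ[Ov O T] SecO F T :=
    { toFun := theta κ T
      map_add' := map_add _
      map_smul' := fun c t => theta_smul _ _ c t }
  have h1 : Module.Projective (Ov O T) (SecO F T) :=
    Module.Projective.of_equiv (LinearEquiv.ofBijective θ (bijective_theta_free S I T hA))
  haveI : Module.Projective (Ob O A) (Sec F A) := h1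
  refine Module.Projective.of_split (app s A) (app π A) (LinearMap.ext fun x => ?_)
  show app π A (app s A x) = x
  rw [← app_comp, h]
  rfl

end Site

variable {S : Scheme.{u}}

/-- A module corepresenting maps from a retract of a free module into direct images is a retract of a free module. -/
theorem exists_retract_of_homEquiv {U V : Over S} {π : U ⟶ V} (hπ : Representable ((yon S).map π))
    (M : ModEt ((yon S).obj V)) {I : Type (u + 1)}
    (p : (SheafOfModules.free I : ModEt ((yon S).obj V)) ⟶ M) (s : M ⟶ SheafOfModules.free I) (hsp : s ≫ p = 𝟙 M)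
    (H : ModEt ((yon S).obj U)) (e : ∀ N : ModEt ((yon S).obj U), (H ⟶ N) ≃ (M ⟶ (pushModEt hπ).obj N))
    (he : ∀ {N N' : ModEt ((yon S).obj U)} (g : H ⟶ N) (k : N ⟶ N'), e N' (g ≫ k) = e N g ≫ (pushModEt hπ).map k) :
    ∃ (p' : (SheafOfModules.free I : ModEt ((yon S).obj U)) ⟶ H) (s' : H ⟶ SheafOfModules.free I), s' ≫ p' = 𝟙 H := by
  haveI := final_bc π hπ
  refine ⟨(freePushEquiv (bcRingHom hπ) I H).symm (p ≫ e H (𝟙 H)),
    (e _).symm (s ≫ freePushEquiv (bcRingHom hπ) I _ (𝟙 _)), (e H).injective ?_⟩
  rw [he, Equiv.apply_symm_apply, Category.assoc, ← freePushEquiv_comp, Category.id_comp, Equiv.apply_symm_apply,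
    ← Category.assoc, hsp, Category.id_comp]

/-- Inverse images of locally projective modules are locally projective. -/
theorem projective_pullModEt {X Y : Space S} (f : X ⟶ Y) (hrep : Representable f.hom)
    [(SheafOfModules.pushforward.{u + 1} (bcRingHom hrep)).IsRightAdjoint] (G : ModEt Y.obj) [G.IsQuasicoherent]
    (hproj : ∀ {V : Over S} (q : (yon S).obj V ⟶ Y.obj) (he : IsEtaleMor q), RepWith @Etale q → IsAffine V.left →
      Module.Projective (Ob (OEt Y.obj) ((EtOver.postcomp q he).obj (topObj V)))
        (Sec (O := OEt Y.obj) G ((EtOver.postcomp q he).obj (topObj V))))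
    {E : EtOver X.obj} (hE : IsAffine E.obj.left.left) :
    Module.Projective (Ob (OEt X.obj) E) (Sec (O := OEt X.obj) ((pullModEt hrep).obj G) E) := by
  obtain ⟨U, p, hp, hs⟩ := Y.property.atlas
  have hp' : RepWith @Etale (hrep.fst p) := MorphismProperty.of_isPullback (hrep.isPullback p).flip hp
  have hs' : RepWith @Surjective (hrep.fst p) := MorphismProperty.of_isPullback (hrep.isPullback p).flip hs
  have he' := isEtaleMor_of_repWith _ hp'
  let H := (pullModEt hrep).obj G
  haveI : H.IsQuasicoherent := isQuasicoherent_pullModEt f hrep G inferInstance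
  let B := EtOver.bcObj hs'.1 E
  haveI hsurj : Surjective (EtOver.bcπ hs'.1 E).left := hs'.2 _ _ _ (EtOver.isPullback_bcObj hs'.1 E)
  obtain ⟨m, hm⟩ := (yon S).map_surjective B.obj.hom
  choose Wb hWb hbW _ using fun b : ↥B.obj.left.left => exists_isAffineOpen_mem_and_subset
    (x := (m ≫ hrep.snd p).left b) (U := (⊤ : U.left.Opens)) trivial
  choose O hO hbO hOW using fun b : ↥B.obj.left.left => exists_isAffineOpen_mem_and_subset (x := b)
    (U := (m ≫ hrep.snd p).left ⁻¹ᵁ Wb b) (hbW b)
  let z : ∀ b, (EtOver.postcomp (hrep.fst p) he').obj (opensObj B (O b)) ⟶ E := fun b =>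
    (EtOver.postcomp (hrep.fst p) he').map (opensInc B (O b)) ≫ (postAdj hs'.1 he').counit.app E
  refine proj_of_cover (O := OEt X.obj) (affEt X.obj) hE (good_of_isQuasicoherent H hE)
    (T := Sieve.ofArrows (fun b => (EtOver.postcomp (hrep.fst p) he').obj (opensObj B (O b))) z) ?_ ?_
  · refine ofArrows_mem_etTop _ _ fun x => ?_
    obtain ⟨b, hb⟩ := hsurj.surj x
    exact ⟨b, ⟨b, hbO b⟩, hb⟩
  intro Z g hZ hg
  obtain ⟨_, a, _, ⟨b⟩, -⟩ := hg
  let E₀ := opensObj (EtOver.mk p hp) (Wb b)
  have hq : RepWith @Etale E₀.obj.hom := E₀.property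
  have hfst : RepWith @Etale (hrep.fst E₀.obj.hom) :=
    MorphismProperty.of_isPullback (hrep.isPullback E₀.obj.hom).flip hq
  have he := isEtaleMor_of_repWith _ hfst
  have hqe := isEtaleMor_of_repWith _ hq
  let M := (resEt hqe).obj G
  haveI : M.IsQuasicoherent := isQuasicoherent_res hqe G
  haveI : Module.Projective (Ob (OEt ((yon S).obj E₀.obj.left)) (topObj E₀.obj.left))
      (Sec (O := OEt ((yon S).obj E₀.obj.left)) M (topObj E₀.obj.left)) :=
    hproj E₀.obj.hom hqe hq (hWb b)
  obtain ⟨I, π₁, s₁, h₁⟩ := exists_retract_free (affEt ((yon S).obj E₀.obj.left)) affCovers_affEt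
    (isTerminalTop E₀.obj.left) (hWb b) M (good_of_isQuasicoherent M (E := topObj E₀.obj.left) (hWb b))
  obtain ⟨π₂, s₂, h₂⟩ := exists_retract_of_homEquiv (representable_yon_map (hrep.snd E₀.obj.hom)) M π₁ s₁ h₁
    ((resEt he).obj H) (fun N => chartHomEquiv hrep hq.rep hqe (representable_yon_map _) hfst.rep he G N)
    (fun {N N'} g k => chartHomEquiv_comp hrep hq.rep hqe (representable_yon_map _) hfst.rep he G g k)
  let A' := (EtOver.postcomp (hrep.fst p) he').obj (opensObj B (O b))
  let k : A'.obj.left ⟶ E₀.obj.left :=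
    Over.homMk ((m ≫ hrep.snd p).left.resLE (Wb b) (O b) (hOW b)) (by
      show (m ≫ hrep.snd p).left.resLE (Wb b) (O b) (hOW b) ≫ (Wb b).ι ≫ U.hom = (O b).ι ≫ B.obj.left.hom
      rw [← Category.assoc, Scheme.Hom.resLE_comp_ι, Category.assoc, Over.w (m ≫ hrep.snd p)])
  have hk : k ≫ (opensInc (EtOver.mk p hp) (Wb b)).hom.left = (opensInc B (O b)).hom.left ≫ m ≫ hrep.snd p := by
    ext : 1
    exact Scheme.Hom.resLE_comp_ι ..
  have hw : A'.obj.hom ≫ f.hom = (yon S).map k ≫ E₀.obj.hom := by
    show (((yon S).map (opensInc B (O b)).hom.left ≫ B.obj.hom) ≫ hrep.fst p) ≫ f.hom =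
      (yon S).map k ≫ (yon S).map (opensInc (EtOver.mk p hp) (Wb b)).hom.left ≫ p
    rw [Category.assoc, Category.assoc, hrep.w, ← hm, ← Category.assoc ((yon S).map m), ← Functor.map_comp,
      ← Category.assoc, ← Functor.map_comp, ← hk, Functor.map_comp, Category.assoc]
  let c : Z ⟶ (EtOver.postcomp (hrep.fst E₀.obj.hom) he).obj (topObj (hrep.pullback E₀.obj.hom)) :=
    a ≫ EtOver.homMk (hrep.lift A'.obj.hom k hw) (by
      show (yon S).map _ ≫ 𝟙 _ ≫ hrep.fst E₀.obj.hom = _
      rw [Category.id_comp]
      exact hrep.lift_fst _ _ _)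
  obtain ⟨V₁, hV₁⟩ := exists_over_lift he (Over.mk c)
  have hl : (EtOver.postcomp (hrep.fst E₀.obj.hom) he).obj V₁.left = Z := congrArg (fun W => W.left) hV₁
  subst hl
  exact projective_sec_of_retract (affEt _) π₂ s₂ h₂ (A := V₁.left) hZ

end GrothLib.AlgSpPull29
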