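import Groth.Agent.Lib.AlgSp.QCohFP
import Groth.Agent.Lib.AlgSpPull29.Cokernel
import Mathlib.RingTheory.Flat.Basic

/-!
# Sections of cokernels of free modules

* `good_kernel`: kernels of maps of good modules are good.
* `sections_exact`: sections at a final affine object of a cokernel of free modules.
* `exists_corep_colimit`: the cokernel of free modules behind a corepresenting module.
-/

universe v₁ v₂ u₁ u₂ u

open CategoryTheory CategoryTheory.Limits Opposite TensorProduct
set_option backward.isDefEq.respectTransparency false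

noncomputable section

namespace GrothLib.AlgSpPull29

section Corep

variable {C : Type u₁} [Category.{v₁} C] {D : Type u₂} [Category.{v₂} D]
  {J : GrothendieckTopology C} {K : GrothendieckTopology D} {F : C ⥤ D}
  {S : Sheaf J RingCat.{u}} {R : Sheaf K RingCat.{u}}
  [Functor.IsContinuous F J K]
  (φ : S ⟶ (F.sheafPushforwardContinuous RingCat.{u} J K).obj R)
  [HasSheafify J AddCommGrpCat.{u}] [J.WEqualsLocallyBijective AddCommGrpCat.{u}]
  [HasSheafify K AddCommGrpCat.{u}] [K.WEqualsLocallyBijective AddCommGrpCat.{u}] [F.Final]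

/-- A module corepresenting maps from a cokernel of free modules into direct images is such a cokernel. -/
theorem exists_corep_colimit {M : SheafOfModules.{u} S} {I J' : Type u}
    {a : (SheafOfModules.free I : SheafOfModules.{u} S) ⟶ SheafOfModules.free J'}
    {g : (SheafOfModules.free J' : SheafOfModules.{u} S) ⟶ M} (hag : a ≫ g = 0)
    (hcol : IsColimit (CokernelCofork.ofπ g hag)) (H : SheafOfModules.{u} R)
    (e : ∀ N : SheafOfModules.{u} R, (H ⟶ N) ≃ (M ⟶ (SheafOfModules.pushforward.{u} φ).obj N))
    (he : ∀ {N N' : SheafOfModules.{u} R} (k : H ⟶ N) (p : N ⟶ N'),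
      e N' (k ≫ p) = e N k ≫ (SheafOfModules.pushforward.{u} φ).map p) :
    ∃ (a' : (SheafOfModules.free I : SheafOfModules.{u} R) ⟶ SheafOfModules.free J')
      (g' : (SheafOfModules.free J' : SheafOfModules.{u} R) ⟶ H) (h' : a' ≫ g' = 0),
      Nonempty (IsColimit (CokernelCofork.ofπ g' h')) ∧
        freePushEquiv φ I _ a' = a ≫ freePushEquiv φ J' _ (𝟙 _) ∧
        freePushEquiv φ J' H g' = g ≫ e H (𝟙 H) := by
  let a' : (SheafOfModules.free I : SheafOfModules.{u} R) ⟶ SheafOfModules.free J' :=
    (freePushEquiv φ I _).symm (a ≫ freePushEquiv φ J' _ (𝟙 _))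
  have key : ∀ {N : SheafOfModules.{u} R} (k : (SheafOfModules.free J' : SheafOfModules.{u} R) ⟶ N),
      a' ≫ k = 0 ↔ a ≫ freePushEquiv φ J' N k = 0 := fun {N} k => by
    rw [← (freePushEquiv φ I N).injective.eq_iff, freePushEquiv_zero, freePushEquiv_comp, Equiv.apply_symm_apply,
      Category.assoc, ← freePushEquiv_comp, Category.id_comp]
  let g' : (SheafOfModules.free J' : SheafOfModules.{u} R) ⟶ H := (freePushEquiv φ J' H).symm (g ≫ e H (𝟙 H))
  have hg' : ∀ {N : SheafOfModules.{u} R} (k : H ⟶ N), freePushEquiv φ J' N (g' ≫ k) = g ≫ e N k := fun {N} k => by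
    rw [freePushEquiv_comp, Equiv.apply_symm_apply, Category.assoc, ← he, Category.id_comp]
  have h' : a' ≫ g' = 0 := (key g').2 (by
    rw [Equiv.apply_symm_apply, ← Category.assoc, hag, zero_comp])
  refine ⟨a', g', h', ⟨CokernelCofork.IsColimit.ofπ g' h'
    (fun {N} k hk => (e N).symm (Cofork.IsColimit.desc hcol (freePushEquiv φ J' N k)
      (by rw [(key k).1 hk, zero_comp]))) (fun {N} k hk => ?_) (fun {N} k hk m hm => ?_)⟩,
    Equiv.apply_symm_apply _ _, Equiv.apply_symm_apply _ _⟩
  · refine (freePushEquiv φ J' N).injective ?_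
    rw [hg', Equiv.apply_symm_apply]
    exact Cofork.IsColimit.π_desc' hcol _ _
  · refine (Equiv.eq_symm_apply _).2 (Cofork.IsColimit.hom_ext hcol ?_)
    rw [Cofork.IsColimit.π_desc' hcol, ← hm, hg']
    rfl

end Corep

open GrothLib.AlgSp.QCohEt

variable {C : Type (u + 1)} [Category.{u} C] {J : GrothendieckTopology C} {O : Sheaf J CommRingCat.{u + 1}}
  [HasSheafify J AddCommGrpCat.{u + 1}] [J.WEqualsLocallyBijective AddCommGrpCat.{u + 1}]
  (S : AffSite O)

/-- Kernels of maps of good modules are good. -/
theorem good_kernel {F M : SheafOfModules.{u + 1} (RR O)} (g : F ⟶ M) {E : C} (hE : S.Aff E)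
    (hF : Good F S E) (hM : Good M S E) : Good (kernel g) S E := by
  intro V hV
  haveI : Module.Flat (Ob O E) (Ov O V) := S.flat V.hom hE hV
  let ι₀ := kernel.ι g
  let idK : Sec (kernel g) E →ₗ[Ob O E] Sec (kernel g) E := LinearMap.id
  let idF : Sec F E →ₗ[Ob O E] Sec F E := LinearMap.id
  have h1 : ∀ z, app ι₀ V.left (theta idK V z) = theta idF V ((app ι₀ E).lTensor (Ov O V) z) := fun z => by
    rw [app_theta, ← theta_comp]
    rfl
  refine ⟨fun x y hxy => ?_, fun x => ?_⟩
  · refine Module.Flat.lTensor_preserves_injective_linearMap (app ι₀ E) (app_injective ι₀ E) ((hF V hV).1 ?_)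
    rw [← h1, ← h1]
    exact congrArg (app ι₀ V.left) hxy
  · obtain ⟨c, hc⟩ := (hF V hV).2 (app ι₀ V.left x)
    have hex : Function.Exact (app ι₀ E) (app g E) := fun z => ⟨exact_kernel g E z, by
      rintro ⟨k, rfl⟩
      rw [← app_comp, kernel.condition]
      rfl⟩
    have h0 : (app g E).lTensor (Ov O V) c = 0 := by
      refine (hM V hV).1 ?_
      rw [map_zero, ← theta_comp, LinearMap.id_comp]
      refine ((app_theta g idF V c).symm.trans ?_)
      rw [show theta idF V c = _ from hc, ← app_comp, kernel.condition]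
      rfl
    obtain ⟨z, hz⟩ := (Module.Flat.lTensor_exact (Ov O V) hex c).1 h0
    refine ⟨z, app_injective ι₀ V.left ?_⟩
    rw [h1, hz]
    exact hc

/-- Sections at a final affine object of a cokernel of free modules. -/
theorem sections_exact {top : C} (htop : S.Aff top) {I J' : Type (u + 1)} {M : SheafOfModules.{u + 1} (RR O)}
    {a : (SheafOfModules.free I : SheafOfModules.{u + 1} (RR O)) ⟶ SheafOfModules.free J'}
    {g : (SheafOfModules.free J' : SheafOfModules.{u + 1} (RR O)) ⟶ M} (hag : a ≫ g = 0)
    (hcol : IsColimit (CokernelCofork.ofπ g hag)) :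
    Function.Surjective (app g top) ∧
      LinearMap.ker (app g top) ≤ Submodule.span (Ob O top)
        (Set.range fun i => app a top (secAt (SheafOfModules.freeSection i) top)) := by
  let P := SheafOfModules.presentationOfIsCokernelFree a g hag hcol
  have hgood : Good M S top := good_of_presentation S P htop
  have hgoodF : Good (SheafOfModules.free J' : SheafOfModules.{u + 1} (RR O)) S top :=
    good_of_theta S htop _ fun V hV => bijective_theta_free S J' V hV
  constructor
  · rw [← LinearMap.range_eq_top, eq_top_iff, ← span_secAt_eq_top S P.generators htop hgood, Submodule.span_le]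
    rintro _ ⟨i, rfl⟩
    exact ⟨secAt (SheafOfModules.freeSection i) top, rfl⟩
  · intro x hx
    have hπ : P.generators.π = g := SheafOfModules.generatorsOfIsCokernelFree_π a g hag hcol
    obtain ⟨k, rfl⟩ := exact_kernel P.generators.π top x (by rw [hπ]; exact hx)
    have hK := span_secAt_eq_top S P.relations htop
      (good_kernel S P.generators.π htop hgoodF (by exact hgood))
    have hk : k ∈ Submodule.span (Ob O top) (Set.range fun i => secAt (P.relations.s i) top) :=
      hK.symm ▸ Submodule.mem_top
    have h2 := Submodule.mem_map_of_mem (f := app (kernel.ι P.generators.π) top) hk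
    rw [Submodule.map_span] at h2
    refine Submodule.span_mono ?_ h2
    rintro _ ⟨_, ⟨i, rfl⟩, rfl⟩
    refine ⟨i, ?_⟩
    show app a top _ = app (kernel.ι P.generators.π) top (app (kernel.lift P.generators.π a
      (by rw [hπ]; exact hag)) top (secAt (SheafOfModules.freeSection i) top))
    rw [← app_comp, kernel.lift_ι]
    rfl

end GrothLib.AlgSpPull29
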