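import Groth.Agent.Lib.AlgSpPull29.Main
import Groth.Agent.Lib.AlgSpPull29.SitePres
import Groth.Agent.Lib.AlgSp.QCohPushAff

/-!
# Sections of inverse images on affine charts

* `exists_tensor_equiv`: over an affine morphism of affine schemes the inverse image has the sections `B ⊗ M`.
-/

universe u

open CategoryTheory CategoryTheory.Limits AlgebraicGeometry Opposite TensorProduct
set_option backward.isDefEq.respectTransparency false

noncomputable section

namespace GrothLib.AlgSpPull29

open _root_.AlgSp GrothLib.AlgSp GrothLib.AlgSp.QCohEt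

variable {S : Scheme.{u}} {U V : Over S} {π : U ⟶ V} (hπ : Representable ((yon S).map π))

/-- A corepresenting module has the base changed sections. -/
theorem exists_tensor_equiv (hV : IsAffine V.left)
    (hA : IsAffine ((EtOver.bc hπ).obj (topObj V)).obj.left.left)
    (M : ModEt ((yon S).obj V)) [M.IsQuasicoherent] (H : ModEt ((yon S).obj U))
    (e : ∀ N : ModEt ((yon S).obj U), (H ⟶ N) ≃ (M ⟶ (pushModEt hπ).obj N))
    (he : ∀ {N N' : ModEt ((yon S).obj U)} (k : H ⟶ N) (p : N ⟶ N'), e N' (k ≫ p) = e N k ≫ (pushModEt hπ).map p) :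
    letI : Algebra (Ob (OEt ((yon S).obj V)) (topObj V))
        (Ob (OEt ((yon S).obj U)) ((EtOver.bc hπ).obj (topObj V))) := (bcF hπ (topObj V)).toAlgebra
    Nonempty (Ob (OEt ((yon S).obj U)) ((EtOver.bc hπ).obj (topObj V)) ⊗[Ob (OEt ((yon S).obj V)) (topObj V)]
      Sec (O := OEt ((yon S).obj V)) M (topObj V) ≃ₗ[Ob (OEt ((yon S).obj U)) ((EtOver.bc hπ).obj (topObj V))]
        Sec (O := OEt ((yon S).obj U)) H ((EtOver.bc hπ).obj (topObj V))) := by
  classical
  let T := topObj V
  let A := (EtOver.bc hπ).obj T
  let R := Ob (OEt ((yon S).obj V)) T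
  let B := Ob (OEt ((yon S).obj U)) A
  let φ : R →+* B := bcF hπ T
  letI : Algebra R B := φ.toAlgebra
  haveI := final_bc π hπ
  obtain ⟨P⟩ := exists_presentation_top V hV M
  let I := P.relations.I
  let J' := P.generators.I
  let a : (SheafOfModules.free I : ModEt ((yon S).obj V)) ⟶ SheafOfModules.free J' :=
    (SheafOfModules.freeHomEquiv _).symm P.relations.s ≫ kernel.ι P.generators.π
  obtain ⟨a', g', h', ⟨hcol'⟩, ha', hg'⟩ :=
    exists_corep_colimit (bcRingHom hπ) (a := a) (g := P.generators.π) _ P.isColimit H e he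
  obtain ⟨hLs, -⟩ := sections_exact (affEt ((yon S).obj V)) (top := T) hV (a := a) (g := P.generators.π) _ P.isColimit
  obtain ⟨hL's, hL'k⟩ := sections_exact (affEt ((yon S).obj U)) (top := A) hA h' hcol'
  let Fv : ModEt ((yon S).obj V) := SheafOfModules.free J'
  let Fu : ModEt ((yon S).obj U) := SheafOfModules.free J'
  let κ : (J' →₀ R) →ₗ[R] Sec (O := OEt ((yon S).obj V)) Fv T :=
    Finsupp.linearCombination R fun j => secAt (SheafOfModules.freeSection (R := RR (OEt ((yon S).obj V))) j : Fv.sections) T
  let κ' : (J' →₀ B) →ₗ[B] Sec (O := OEt ((yon S).obj U)) Fu A :=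
    Finsupp.linearCombination B fun j => secAt (SheafOfModules.freeSection (R := RR (OEt ((yon S).obj U))) j : Fu.sections) A
  have hκs : Function.Surjective κ :=
    surjective_kappa κ (bijective_theta_free (affEt ((yon S).obj V)) J' (Over.mk (𝟙 T)) hV).2
  have hκ's : Function.Surjective κ' :=
    surjective_kappa κ' (bijective_theta_free (affEt ((yon S).obj U)) J' (Over.mk (𝟙 A)) hA).2
  let L := (app P.generators.π T).comp κ
  let L' := (app g' A).comp κ'
  let mR : (J' →₀ R) → (J' →₀ B) := fun c => Finsupp.mapRange φ (map_zero φ) c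
  have hnat : ∀ {N : ModEt ((yon S).obj U)} (k : (SheafOfModules.free J' : ModEt ((yon S).obj U)) ⟶ N) (c : J' →₀ R),
      (show Sec (O := OEt ((yon S).obj U)) N A from app (freePushEquiv (bcRingHom hπ) J' N k) T (κ c)) =
        app k A (κ' (mR c)) := by
    intro N k c
    induction c using Finsupp.induction_linear with
    | zero => simp [mR]
    | add p q hp hq =>
      rw [map_add, map_add, show mR (p + q) = mR p + mR q from Finsupp.mapRange_add (map_add φ) p q, map_add, map_add]
      exact congrArg₂ (fun x y : Sec (O := OEt ((yon S).obj U)) N A => x + y) hp hq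
    | single j r =>
      rw [show κ (Finsupp.single j r) = r • secAt (SheafOfModules.freeSection j) T from
          Finsupp.linearCombination_single _ _ _,
        show mR (Finsupp.single j r) = Finsupp.single j (φ r) from Finsupp.mapRange_single (hf := map_zero φ),
        show κ' (Finsupp.single j (φ r)) = φ r • secAt (SheafOfModules.freeSection j) A from
          Finsupp.linearCombination_single _ _ _, map_smul, map_smul]
      refine congrArg (fun y : Sec (O := OEt ((yon S).obj U)) N A => φ r • y) ?_
      rw [show freePushEquiv (bcRingHom hπ) J' N k = (SheafOfModules.freeHomEquiv _).symm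
          (fun i => SheafOfModules.pushforwardSections (bcRingHom hπ) (SheafOfModules.freeHomEquiv N k i)) from rfl,
        app_secAt_free, SheafOfModules.freeHomEquiv_apply]
      rfl
  let μ₀ : M ⟶ (pushModEt hπ).obj H := e H (𝟙 H)
  letI : Module R (Sec (O := OEt ((yon S).obj U)) H A) := Module.compHom _ φ
  haveI : IsScalarTower R B (Sec (O := OEt ((yon S).obj U)) H A) :=
    IsScalarTower.of_algebraMap_smul fun _ _ => rfl
  let μ : Sec (O := OEt ((yon S).obj V)) M T →ₗ[R] Sec (O := OEt ((yon S).obj U)) H A :=
    { toFun := fun m => app μ₀ T m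
      map_add' := fun m m' => map_add (app μ₀ T) m m'
      map_smul' := fun r m => map_smul (app μ₀ T) r m }
  have hμ : ∀ c, μ (L c) = L' (mR c) := fun c => by
    show (show Sec (O := OEt ((yon S).obj U)) H A from app μ₀ T (app P.generators.π T (κ c))) = app g' A (κ' (mR c))
    rw [← hnat g' c, hg']
    rfl
  let Θ : B ⊗[R] Sec (O := OEt ((yon S).obj V)) M T →ₗ[B] Sec (O := OEt ((yon S).obj U)) H A :=
    TensorProduct.AlgebraTensorModule.lift ((LinearMap.lsmul B _).flip.restrictScalars R |>.comp μ).flip
  have hΘ : ∀ b m, Θ (b ⊗ₜ m) = b • μ m := fun b m => rfl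
  let Ψ : (J' →₀ B) →ₗ[B] B ⊗[R] Sec (O := OEt ((yon S).obj V)) M T :=
    Finsupp.linearCombination B fun j => (1 : B) ⊗ₜ[R] L (Finsupp.single j 1)
  have hΨ : ∀ c, Ψ (mR c) = (1 : B) ⊗ₜ[R] L c := by
    intro c
    induction c using Finsupp.induction_linear with
    | zero => simp [mR]
    | add p q hp hq =>
      rw [show mR (p + q) = mR p + mR q from Finsupp.mapRange_add (map_add φ) p q, map_add, hp, hq, map_add,
        TensorProduct.tmul_add]
    | single j r =>
      rw [show mR (Finsupp.single j r) = Finsupp.single j (φ r) from Finsupp.mapRange_single (hf := map_zero φ),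
        show Ψ (Finsupp.single j (φ r)) = φ r • ((1 : B) ⊗ₜ[R] L (Finsupp.single j 1)) from
          Finsupp.linearCombination_single _ _ _,
        show Finsupp.single j r = r • Finsupp.single j (1 : R) by simp, map_smul,
        TensorProduct.tmul_smul, show φ r = algebraMap R B r from rfl, algebraMap_smul]
  have hΘΨ : Θ.comp Ψ = L' := by
    refine Finsupp.lhom_ext fun j b => ?_
    show Θ (Ψ (Finsupp.single j b)) = _
    rw [show Ψ (Finsupp.single j b) = b • ((1 : B) ⊗ₜ[R] L (Finsupp.single j 1)) from
        Finsupp.linearCombination_single _ _ _, map_smul, hΘ, one_smul, hμ,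
      show mR (Finsupp.single j 1) = Finsupp.single j 1 from (Finsupp.mapRange_single (hf := map_zero φ)).trans
        (by rw [map_one]), ← map_smul, Finsupp.smul_single_one]
  have hΨs : Function.Surjective Ψ := fun z => by
    induction z using TensorProduct.induction_on with
    | zero => exact ⟨0, map_zero _⟩
    | add x y hx hy =>
      obtain ⟨p, rfl⟩ := hx
      obtain ⟨q, rfl⟩ := hy
      exact ⟨p + q, map_add _ _ _⟩
    | tmul b m =>
      obtain ⟨y, rfl⟩ := hLs m
      obtain ⟨c, rfl⟩ := hκs y
      refine ⟨b • mR c, ?_⟩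
      rw [map_smul, hΨ, TensorProduct.smul_tmul', smul_eq_mul, mul_one]
      rfl
  have hker : LinearMap.ker L' ≤ LinearMap.ker Ψ := by
    intro y hy
    have hy' : κ' y ∈ Submodule.span B (Set.range fun i => app a' A (secAt (SheafOfModules.freeSection i) A)) :=
      hL'k hy
    choose c hc using fun i => hκs (app a T (secAt (SheafOfModules.freeSection i) T))
    have hgen : ∀ i, app a' A (secAt (SheafOfModules.freeSection i) A) = κ' (mR (c i)) := fun i => by
      have h1 := congrArg (fun t => app t T (secAt (SheafOfModules.freeSection i) T)) ha'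
      rw [app_comp, ← hc] at h1
      refine Eq.trans ?_ (((h1.trans (hnat (𝟙 _) (c i)))).trans rfl)
      rw [show freePushEquiv (bcRingHom hπ) I _ a' = (SheafOfModules.freeHomEquiv _).symm
          (fun i => SheafOfModules.pushforwardSections (bcRingHom hπ) (SheafOfModules.freeHomEquiv _ a' i)) from rfl,
        app_secAt_free, SheafOfModules.freeHomEquiv_apply]
      rfl
    have hspan : Submodule.span B (Set.range fun i => app a' A (secAt (SheafOfModules.freeSection i) A)) ≤
        (Submodule.span B (Set.range fun i => mR (c i))).map κ' := by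
      rw [Submodule.map_span, Submodule.span_le]
      rintro _ ⟨i, rfl⟩
      exact Submodule.subset_span ⟨_, ⟨i, rfl⟩, (hgen i).symm⟩
    obtain ⟨y', hy'', hyy⟩ := hspan hy'
    have hinj : Function.Injective κ' := fun p q hpq => by
      have h := (bijective_theta_free (affEt ((yon S).obj U)) J' (Over.mk (𝟙 A)) hA).1
        (a₁ := (1 : B) ⊗ₜ p) (a₂ := (1 : B) ⊗ₜ q) (by rw [theta_tmul, theta_tmul]; exact congrArg _ (congrArg _ hpq))
      have h3 := congrArg (fun t => (TensorProduct.lid B (J' →₀ B)) ((LinearMap.rTensor (J' →₀ B)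
        ({ toFun := fun b => (show B from b)
           map_add' := fun _ _ => rfl
           map_smul' := fun r b => by
             show res (OEt ((yon S).obj U)) (𝟙 A) r * (show B from b) = r * (show B from b)
             rw [res_id] } : Ov (OEt ((yon S).obj U)) (Over.mk (𝟙 A)) →ₗ[B] B)) t)) h
      simp only [LinearMap.rTensor_tmul] at h3
      exact ((one_smul B p).symm.trans h3).trans (one_smul B q)
    rw [← hinj hyy]
    have hle : Submodule.span B (Set.range fun i => mR (c i)) ≤ LinearMap.ker Ψ := by
      rw [Submodule.span_le]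
      rintro _ ⟨i, rfl⟩
      have h0 : L (c i) = 0 := by
        show app P.generators.π T (κ (c i)) = 0
        rw [hc, ← app_comp, show a ≫ P.generators.π = 0 by simp [a]]
        rfl
      rw [SetLike.mem_coe, LinearMap.mem_ker, hΨ, h0, TensorProduct.tmul_zero]
    exact hle hy''
  refine ⟨LinearEquiv.ofBijective Θ ⟨?_, fun x => ?_⟩⟩
  · rw [injective_iff_map_eq_zero]
    intro z hz
    obtain ⟨y, rfl⟩ := hΨs z
    exact hker (show L' y = 0 by rw [← hΘΨ]; exact hz)
  · obtain ⟨y, rfl⟩ := hL's x
    obtain ⟨d, rfl⟩ := hκ's y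
    exact ⟨Ψ d, LinearMap.congr_fun hΘΨ d⟩

end GrothLib.AlgSpPull29
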